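import Groth.Agent.Lib.KummerSmooth.Ring
import Mathlib.AlgebraicGeometry.AffineSpace
import Mathlib.AlgebraicGeometry.Morphisms.Etale
import Mathlib.AlgebraicGeometry.Morphisms.Smooth

/-!
The Kummer scheme of a relative strict normal crossings divisor is smooth over the base.
-/

set_option autoImplicit false
universe u

open AlgebraicGeometry CategoryTheory Limits

namespace Groth.Agent.Lib.KummerSmooth.Main

open AffineSpace in
/-- The polynomial map of an étale map from an affine scheme to affine space is étale. -/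
theorem etale_eval₂Hom {n : Type u} {V U : Scheme.{u}} [IsAffine V] [IsAffine U] (f : V ⟶ U)
    (v : n → Γ(V, ⊤)) (h : Etale (homOfVector f v)) :
    (MvPolynomial.eval₂Hom f.appTop.hom v).Etale := by
  rw [← MorphismProperty.cancel_right_of_respectsIso @Etale _ (isoOfIsAffine n U).hom,
    HasRingHomProperty.iff_of_isAffine (P := @Etale), Scheme.Hom.comp_appTop, isoOfIsAffine_hom_appTop,
    Category.assoc, CommRingCat.hom_comp, RingHom.Etale.respectsIso.cancel_left_isIso] at h
  suffices hh : (CommRingCat.ofHom (MvPolynomial.eval₂Hom (AffineSpace n U ↘ U).appTop.hom (coord U)) ≫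
      (homOfVector f v).appTop).hom = MvPolynomial.eval₂Hom f.appTop.hom v by
    exact (congrArg (fun φ : MvPolynomial n Γ(U, ⊤) →+* Γ(V, ⊤) => φ.Etale) hh).mp h
  refine MvPolynomial.ringHom_ext (fun r => ?_) (fun i => ?_)
  · simp only [CommRingCat.hom_comp, CommRingCat.hom_ofHom, RingHom.comp_apply, MvPolynomial.eval₂Hom_C]
    conv_rhs => rw [← homOfVector_over f v, Scheme.Hom.comp_appTop]
    rfl
  · simp only [CommRingCat.hom_comp, CommRingCat.hom_ofHom, RingHom.comp_apply, MvPolynomial.eval₂Hom_X']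
    exact homOfVector_appTop_coord _ _ _

theorem formallySmooth_kummer {X S : Scheme.{u}} (f : X ⟶ S) {r : ℕ} (φ : Fin r → Γ(X, ⊤))
    (hD : SGA1t.IsRelSNC f φ) (x : X) (hx : Nonempty (SGA1t.vanishingAt φ x))
    (n : SGA1t.vanishingAt φ x → ℕ) :
    ∃ (U : S.Opens) (_ : IsAffineOpen U) (V : X.Opens) (_ : IsAffineOpen V) (hxV : x ∈ V) (e : V ≤ f ⁻¹ᵁ U),
      ((algebraMap (X.presheaf.stalk x)
        (SGA1t.kummer (X.presheaf.stalk x) (fun i => (X.presheaf.germ ⊤ x trivial).hom (φ i.1)) n)).comp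
          ((X.presheaf.germ V x hxV).hom.comp (f.appLE U V e).hom)).FormallySmooth := by
  obtain ⟨W, hxW, d, v, idx, hidx, hv, hvφ⟩ := hD x hx
  obtain ⟨_, ⟨U, hU, rfl⟩, hfxU, -⟩ :=
    S.isBasis_affineOpens.exists_subset_of_mem_open (Set.mem_univ (f x)) isOpen_univ
  obtain ⟨_, ⟨V, hV, rfl⟩, hxV, hVsub⟩ :=
    X.isBasis_affineOpens.exists_subset_of_mem_open (a := x)
      (u := ((W ⊓ f ⁻¹ᵁ U : X.Opens) : Set X)) ⟨hxW, hfxU⟩ (W ⊓ f ⁻¹ᵁ U).2
  have hVW : V ≤ W := fun z hz => (hVsub hz).1
  have hVU : V ≤ f ⁻¹ᵁ U := fun z hz => (hVsub hz).2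
  refine ⟨U, hU, V, hV, hxV, hVU, ?_⟩
  let w : ULift.{u} (Fin d) → Γ(V, ⊤) := fun j => (X.homOfLE hVW).appTop (v j)
  have : IsAffine (U : Scheme.{u}) := hU
  have : IsAffine (V : Scheme.{u}) := hV
  have hcomp : AffineSpace.homOfVector (f.resLE U V hVU) w ≫ AffineSpace.map _ (Scheme.Opens.ι U) =
      X.homOfLE hVW ≫ AffineSpace.homOfVector (W.ι ≫ f) v := by
    ext1
    · simp
    · simp [w]
  have : IsOpenImmersion (AffineSpace.map (ULift.{u} (Fin d)) (Scheme.Opens.ι U)) :=
    MorphismProperty.of_isPullback (P := @IsOpenImmersion)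
      (AffineSpace.isPullback_map (Scheme.Opens.ι U)).flip inferInstance
  have he : Etale (AffineSpace.homOfVector (f.resLE U V hVU) w) := by
    have : Etale (AffineSpace.homOfVector (f.resLE U V hVU) w ≫ AffineSpace.map _ (Scheme.Opens.ι U)) := by
      rw [hcomp]; infer_instance
    exact Etale.of_comp _ (AffineSpace.map _ (Scheme.Opens.ι U))
  have het := etale_eval₂Hom _ w he
  -- transport to the rings of sections and localise at `x`
  let ψ : MvPolynomial (ULift.{u} (Fin d)) Γ((U : Scheme.{u}), ⊤) →+* X.presheaf.stalk x :=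
    (X.presheaf.germ V x hxV).hom.comp
      ((Scheme.Opens.topIso V).hom.hom.comp (MvPolynomial.eval₂Hom (f.resLE U V hVU).appTop.hom w))
  have hψ : ψ.FormallySmooth := by
    have h0 : (MvPolynomial.eval₂Hom (f.resLE U V hVU).appTop.hom w).FormallySmooth := by
      have := het
      algebraize [MvPolynomial.eval₂Hom (f.resLE U V hVU).appTop.hom w]
      exact inferInstanceAs (Algebra.FormallySmooth _ _)
    refine RingHom.FormallySmooth.comp (RingHom.FormallySmooth.comp h0 ?_) ?_
    · exact RingHom.FormallySmooth.of_bijective (ConcreteCategory.bijective_of_isIso (Scheme.Opens.topIso V).hom)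
    · let _ := (X.presheaf.germ V x hxV).hom.toAlgebra
      have : IsLocalization.AtPrime (X.presheaf.stalk x) (hV.primeIdealOf ⟨x, hxV⟩).asIdeal :=
        hV.isLocalization_stalk ⟨x, hxV⟩
      exact Algebra.FormallySmooth.of_isLocalization (hV.primeIdealOf ⟨x, hxV⟩).asIdeal.primeCompl
  have := Ring.formallySmooth (fun i => ULift.up.{u} (idx i)) (fun i j h => hidx (congrArg ULift.down h)) n ψ
    hψ (fun i => (X.presheaf.germ ⊤ x trivial).hom (φ i.1)) fun i => by
      show X.presheaf.germ V x hxV ((Scheme.Opens.topIso V).hom (MvPolynomial.eval₂Hom _ w (MvPolynomial.X _))) = _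
      rw [MvPolynomial.eval₂Hom_X']
      show X.presheaf.germ V x hxV ((Scheme.Opens.topIso V).hom ((X.homOfLE hVW).app ⊤ (v _))) = _
      rw [hvφ i]
      show ((X.presheaf.map (homOfLE le_top).op ≫ W.topIso.inv ≫ (X.homOfLE hVW).app ⊤ ≫ (Scheme.Opens.topIso V).hom ≫
        X.presheaf.germ V x hxV) (φ i.1)) = _
      refine ConcreteCategory.congr_hom ?_ (φ i.1)
      simp only [Scheme.homOfLE_app, Scheme.Opens.topIso, Functor.mapIso_inv, Functor.mapIso_hom]
      erw [TopCat.Presheaf.germ_res', TopCat.Presheaf.germ_res', TopCat.Presheaf.germ_res',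
        TopCat.Presheaf.germ_res']
  convert RingHom.FormallySmooth.comp
    (RingHom.FormallySmooth.of_bijective (ConcreteCategory.bijective_of_isIso (Scheme.Opens.topIso U).inv)) this using 1
  refine RingHom.ext fun s => ?_
  simp only [ψ, RingHom.comp_apply, MvPolynomial.eval₂Hom_C]
  congr 2
  have h1 : (Scheme.Opens.topIso U).inv ≫ (f.resLE U V hVU).appTop ≫ (Scheme.Opens.topIso V).hom =
      f.appLE U V hVU := by
    simp only [Scheme.Hom.appTop, Scheme.Hom.resLE_app_top, Category.assoc, Iso.inv_hom_id,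
      Iso.inv_hom_id_assoc, Category.comp_id]
  exact (ConcreteCategory.congr_hom h1 s).symm

theorem formallySmooth_stalkMap {R T : CommRingCat.{u}} (g : R ⟶ T) (hg : g.hom.FormallySmooth)
    (p : Spec T) : ((Spec.map g).stalkMap p).hom.FormallySmooth := by
  rw [RingHom.FormallySmooth.respectsIso.arrow_mk_iso_iff (Scheme.arrowStalkMapSpecIso g p)]
  algebraize [g.hom]
  let q : Ideal R := (PrimeSpectrum.comap g.hom p).asIdeal
  let _ := (Localization.localRingHom q p.asIdeal g.hom rfl).toAlgebra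
  have : IsScalarTower R (Localization.AtPrime q) (Localization.AtPrime p.asIdeal) :=
    IsScalarTower.of_algebraMap_eq fun r => (Localization.localRingHom_to_map q p.asIdeal g.hom rfl r).symm
  have : Algebra.FormallySmooth T (Localization.AtPrime p.asIdeal) :=
    Algebra.FormallySmooth.of_isLocalization p.asIdeal.primeCompl
  have : Algebra.FormallySmooth R (Localization.AtPrime p.asIdeal) :=
    Algebra.FormallySmooth.comp R T (Localization.AtPrime p.asIdeal)
  exact Algebra.FormallySmooth.localization_base q.primeCompl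

theorem formallySmooth_stalkMap_fromSpecStalk {X S : Scheme.{u}} (f : X ⟶ S) {U : S.Opens}
    (hU : IsAffineOpen U) {V : X.Opens} (hV : IsAffineOpen V) (e : V ≤ f ⁻¹ᵁ U) {x : X} (hx : x ∈ V)
    {K : CommRingCat.{u}} (g : X.presheaf.stalk x ⟶ K)
    (hg : (f.appLE U V e ≫ X.presheaf.germ V x hx ≫ g).hom.FormallySmooth) (z : Spec K) :
    ((Spec.map g ≫ X.fromSpecStalk x ≫ f).stalkMap z).hom.FormallySmooth := by
  have h1 : Spec.map g ≫ X.fromSpecStalk x ≫ f =
      Spec.map (f.appLE U V e ≫ X.presheaf.germ V x hx ≫ g) ≫ hU.fromSpec := by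
    rw [← hV.fromSpecStalk_eq_fromSpecStalk hx, IsAffineOpen.fromSpecStalk, Spec.map_comp, Spec.map_comp]
    simp only [Category.assoc]
    rw [← IsAffineOpen.SpecMap_appLE_fromSpec f hU hV e]
  rw [h1, Scheme.Hom.stalkMap_comp]
  exact RingHom.FormallySmooth.comp
    (RingHom.FormallySmooth.of_bijective (ConcreteCategory.bijective_of_isIso (hU.fromSpec.stalkMap _)))
    (formallySmooth_stalkMap _ hg z)

end Groth.Agent.Lib.KummerSmooth.Main
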