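import Groth.Prelude.Def_SGA1t
import Mathlib.RingTheory.Smooth.Basic
import Mathlib.RingTheory.RingHom.Smooth

/-!
Kummer algebras of coordinate functions are formally smooth over the base.
-/

set_option autoImplicit false
universe u

namespace Groth.Agent.Lib.KummerSmooth.Ring

theorem formallySmooth {R A : Type u} [CommRing R] [CommRing A] {σ : Type u} {ι : Type}
    (e : ι → σ) (he : Function.Injective e) (n : ι → ℕ) (ψ : MvPolynomial σ R →+* A)
    (h : ψ.FormallySmooth) (a : ι → A) (ha : ∀ i, ψ (MvPolynomial.X (e i)) = a i) :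
    ((algebraMap A (SGA1t.kummer A a n)).comp (ψ.comp MvPolynomial.C)).FormallySmooth := by
  let _ := ψ.toAlgebra
  let _ : Algebra R A := (ψ.comp MvPolynomial.C).toAlgebra
  let _ : Algebra R (SGA1t.kummer A a n) :=
    ((algebraMap A (SGA1t.kummer A a n)).comp (ψ.comp MvPolynomial.C)).toAlgebra
  have hsm : Algebra.FormallySmooth (MvPolynomial σ R) A := h
  suffices Algebra.FormallySmooth R (SGA1t.kummer A a n) from this
  rw [Algebra.FormallySmooth.iff_comp_surjective]
  intro B _ _ J hJ g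
  obtain ⟨b, hb⟩ : ∃ b : ι → B, ∀ i, Ideal.Quotient.mk J (b i) =
      g (Ideal.Quotient.mk _ (MvPolynomial.X i)) :=
    ⟨fun i => (Ideal.Quotient.mk_surjective _).choose, fun i => (Ideal.Quotient.mk_surjective _).choose_spec⟩
  let q : SGA1t.kummer A a n →+* B ⧸ J := g.toRingHom
  let gA : A →+* B ⧸ J := q.comp (algebraMap A _)
  let c : σ → B := Function.extend e (fun i => b i ^ n i)
    (fun j => (Ideal.Quotient.mk_surjective (gA (ψ (MvPolynomial.X j)))).choose)
  have hrel : ∀ i, (Ideal.Quotient.mk _ (MvPolynomial.X i) : SGA1t.kummer A a n) ^ n i =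
      algebraMap A _ (a i) := fun i => by
    rw [← map_pow, ← sub_eq_zero]
    show Ideal.Quotient.mk _ _ - Ideal.Quotient.mk _ (MvPolynomial.C (a i)) = 0
    rw [← map_sub]
    exact Ideal.Quotient.eq_zero_iff_mem.2 (Ideal.subset_span ⟨i, rfl⟩)
  have hc : ∀ j, Ideal.Quotient.mk J (c j) = gA (ψ (MvPolynomial.X j)) := fun j => by
    by_cases hj : ∃ i, e i = j
    · obtain ⟨i, rfl⟩ := hj
      show Ideal.Quotient.mk J (Function.extend e _ _ (e i)) = q (algebraMap A _ (ψ _))
      rw [he.extend_apply, map_pow, hb, ha, ← hrel]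
      exact (map_pow g _ _).symm
    · simp only [c, Function.extend_apply' _ _ _ hj]
      exact (Ideal.Quotient.mk_surjective (gA (ψ (MvPolynomial.X j)))).choose_spec
  let φ : MvPolynomial σ R →+* B := MvPolynomial.eval₂Hom (algebraMap R B) c
  let _ : Algebra (MvPolynomial σ R) B := φ.toAlgebra
  have hφ : ∀ p, Ideal.Quotient.mk J (φ p) = gA (ψ p) := by
    intro p
    refine DFunLike.congr_fun (show (Ideal.Quotient.mk J).comp φ = gA.comp ψ from
      MvPolynomial.ringHom_ext (fun r => ?_) (fun j => ?_)) p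
    · show Ideal.Quotient.mk J (φ (MvPolynomial.C r)) = g (algebraMap R _ r)
      rw [MvPolynomial.eval₂Hom_C, g.commutes]
      rfl
    · show Ideal.Quotient.mk J (φ (MvPolynomial.X j)) = gA (ψ _)
      rw [MvPolynomial.eval₂Hom_X', hc]
  let gA' : A →ₐ[MvPolynomial σ R] B ⧸ J := { gA with commutes' := fun p => (hφ p).symm }
  obtain ⟨l, hl⟩ := Algebra.FormallySmooth.comp_surjective (MvPolynomial σ R) A J hJ gA'
  have hla : ∀ i, l (a i) = b i ^ n i := fun i => by
    rw [← ha, show l (ψ (MvPolynomial.X (e i))) = φ (MvPolynomial.X (e i)) from l.commutes _,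
      MvPolynomial.eval₂Hom_X']
    exact he.extend_apply _ _ _
  let L : MvPolynomial ι A →+* B := MvPolynomial.eval₂Hom l.toRingHom b
  have hL : ∀ p ∈ Ideal.span (Set.range fun i => (MvPolynomial.X i : MvPolynomial ι A) ^ n i -
      MvPolynomial.C (a i)), L p = 0 := by
    intro p hp
    refine (Ideal.span_le (I := RingHom.ker L)).2 ?_ hp
    rintro _ ⟨i, rfl⟩
    rw [SetLike.mem_coe, RingHom.mem_ker, map_sub, map_pow, MvPolynomial.eval₂Hom_X', MvPolynomial.eval₂Hom_C]
    exact sub_eq_zero.2 (hla i).symm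
  refine ⟨{ Ideal.Quotient.lift _ L hL with commutes' := fun r => ?_ }, ?_⟩
  · show Ideal.Quotient.lift _ L hL (Ideal.Quotient.mk _ (MvPolynomial.C (ψ (MvPolynomial.C r)))) = _
    rw [Ideal.Quotient.lift_mk, MvPolynomial.eval₂Hom_C]
    exact (l.commutes _).trans (MvPolynomial.eval₂Hom_C _ _ r)
  · refine AlgHom.coe_ringHom_injective (Ideal.Quotient.ringHom_ext
      (MvPolynomial.ringHom_ext (fun x => ?_) (fun i => ?_)))
    · show Ideal.Quotient.mk J (Ideal.Quotient.lift _ L hL (Ideal.Quotient.mk _ (MvPolynomial.C x))) = _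
      rw [Ideal.Quotient.lift_mk, MvPolynomial.eval₂Hom_C]
      exact DFunLike.congr_fun hl x
    · show Ideal.Quotient.mk J (Ideal.Quotient.lift _ L hL (Ideal.Quotient.mk _ (MvPolynomial.X i))) = _
      rw [Ideal.Quotient.lift_mk, MvPolynomial.eval₂Hom_X']
      exact hb i

end Groth.Agent.Lib.KummerSmooth.Ring
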